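import Cfsg.Agent.Lib.FourFree.Stellmacher.Pair
import Cfsg.Agent.Lib.PGroup.CharPLocal

/-!
# A configuration is generated by the span

In an `HConfig` the pair `⟨F, F ^ g⟩` is the whole of `G`; hence the part of `P = F ∩ O₂(G)` centralized
by `O²(G)` is central, as are the commutators of `P` and `P ^ g`, and the safe subgroup is central.
-/

set_option autoImplicit false
set_option linter.style.haveILetI false
set_option linter.unusedSectionVars false

open Subgroup
open scoped commutatorElement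
open CfsgLib.Fusion (conjBy mem_conjBy conj_mem_conjBy conjBy_le_iff conjBy_eq_iff conjBy_mono
  conjBy_conjBy conjBy_inv_conjBy conjBy_conjBy_inv card_conjBy)

namespace CfsgLib.FourFree.Stellmacher

universe u

variable {S T G G' : Type u} [Group S] [Group T] [Group G] [Group G'] [Finite T] [Finite G]
  {f : T →* S} {τ : T →* G} {τ' : S →* G'} {U : Subgroup S}

variable (hc : HConfig S T G G' f τ τ' U)

include hc

/-- A normal subgroup containing the image of the span is the whole group. -/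
theorem HConfig.normal_eq_top_of_span_le {N : Subgroup G} (hN : N.Normal)
    (hW : ((spanOf τ' U).comap f).map τ ≤ N) : N = ⊤ := by
  haveI : Fact (Nat.Prime 2) := ⟨Nat.prime_two⟩
  haveI := hN
  by_contra hne
  set R := N.comap τ with hR
  set σ : R →* N := (τ.comp R.subtype).codRestrict N fun r => r.2 with hσ
  obtain ⟨P, hP⟩ := hc.member.sylow
  have hrange : σ.range = τ.range.subgroupOf N := by
    ext x
    constructor
    · rintro ⟨r, rfl⟩
      exact ⟨(r : T), rfl⟩
    · intro hx
      obtain ⟨t, ht⟩ := MonoidHom.mem_range.1 (mem_subgroupOf.1 hx)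
      exact ⟨⟨t, show τ t ∈ N by rw [ht]; exact x.2⟩, Subtype.ext ht⟩
  have hrp : IsPGroup 2 (τ.range.subgroupOf N) :=
    hc.range_isPGroup.comap_of_injective N.subtype N.subtype_injective
  have hidx : ¬ 2 ∣ (τ.range.subgroupOf N).index := by
    show ¬ 2 ∣ τ.range.relIndex N
    rw [← inf_relIndex_right, ← hP]
    exact CfsgLib.Fusion.not_dvd_relIndex_inf_of_normal P N
  have hm : IsMember N σ := by
    refine ⟨fun a b hab => Subtype.ext (hc.member.inj (congrArg Subtype.val hab)),
      ⟨hrp.toSylow hidx, hrange.symm⟩, fun h => hc.member.free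
        (CfsgLib.Fusion.involves_of_injective N.subtype N.subtype_injective h), ?_⟩
    exact (CfsgLib.CharPLoc.pClean_of_normal
      (CfsgLib.Invol.pClean_of_centralizer_le hc.member.constrained)).centralizer_le
  have hlt : Nat.card N < Nat.card G :=
    (CfsgLib.Fusion.card_lt_card_of_lt (lt_top_iff_ne_top.2 hne)).trans_eq Subgroup.card_top
  have hWr : spanOf τ' U ≤ (f.comp R.subtype).range := fun w hw => by
    obtain ⟨t, rfl⟩ := hc.span_range hw
    exact ⟨⟨t, hW (mem_map_of_mem τ (show t ∈ (spanOf τ' U).comap f from hw))⟩, rfl⟩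
  have h1 := hc.span_safe.le_core R (f.comp R.subtype) (hc.inj.comp R.subtype_injective) hWr N σ
    hm hlt
  haveI : (Cfsg.pCore 2 N).Characteristic := CfsgLib.Coprime.pCore_characteristic 2
  have h2 : (Cfsg.pCore 2 N).map N.subtype ≤ Cfsg.pCore 2 G := CfsgLib.PGroup.le_pCore
    ConjAct.normal_of_characteristic_of_normal ((CfsgLib.PGroup.isPGroup_pCore 2 _).map _)
  refine hc.not_le ?_
  rintro _ ⟨t, ht, rfl⟩
  exact h2 ⟨_, h1 ⟨⟨t, hW (mem_map_of_mem τ ht)⟩, ht, rfl⟩, rfl⟩

variable {g : G} (hg : IsPair τ g)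

include hg

theorem HConfig.pairL_eq_top : pairL τ g = ⊤ :=
  hc.normal_eq_top_of_span_le (hc.pairL_normal hg)
    ((map_mono hc.span_le_closure).trans le_sup_left)

/-- An element of `P` centralized by `O²(G)` is central. -/
theorem HConfig.mem_center_of_pairP {x : G} (hx : x ∈ frameF τ)
    (hO : x ∈ centralizer (Cfsg.pResidual 2 G : Set G)) : x ∈ center G := by
  haveI : Fact (Nat.Prime 2) := ⟨Nat.prime_two⟩
  haveI : (Cfsg.pResidual 2 G).Normal := CfsgLib.Fusion.pResidual_normal
  have hF : frameF τ ≤ centralizer ({x} : Set G) := fun y hy =>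
    mem_centralizer_singleton_iff.2 (commute_of_sq' hc.frameF_sq hy hx).eq
  have hres : ∀ d ∈ Cfsg.pResidual 2 G, d * x = x * d := fun d hd => mem_centralizer_iff.1 hO d hd
  obtain ⟨P, hP⟩ := hc.member.sylow
  have hdec : g ∈ Cfsg.pResidual 2 G ⊔ τ.range := by
    rw [← hP, CfsgLib.Fusion.pResidual_sup_sylow]
    exact mem_top g
  obtain ⟨d, hd, t, ht, rfl⟩ := Subgroup.mem_sup_of_normal_left.1 hdec
  have hgF : conjBy (d * t) (frameF τ) ≤ centralizer ({x} : Set G) := by
    rw [← conjBy_conjBy, conjBy_eq_iff.2 (hc.range_le_frameM ht)]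
    refine conjBy_le_iff.2 fun y hy => mem_centralizer_singleton_iff.2 ?_
    have h1 : Commute d x := hres d hd
    have h2 : Commute y x := commute_of_sq' hc.frameF_sq hy hx
    exact ((h1.mul_left h2).mul_left h1.inv_left).eq
  refine Subgroup.mem_center_iff.2 fun y => ?_
  have : y ∈ pairL τ (d * t) := (hc.pairL_eq_top hg).symm ▸ mem_top y
  exact mem_centralizer_singleton_iff.1 (sup_le hF hgF this)

theorem HConfig.pairZ_inf_le_center : pairP τ ⊓ pairZ τ g ≤ center G := fun _ hx =>
  hc.mem_center_of_pairP hg hx.1.1 hx.2.2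

theorem HConfig.pairZ_inf_conj_le_center : conjBy g (pairP τ) ⊓ pairZ τ g ≤ center G := by
  intro x hx
  have h1 : g⁻¹ * x * g ∈ center G := hc.pairZ_inf_le_center hg ⟨mem_conjBy.1 hx.1, by
    simpa using (hc.pairZ_normal hg).conj_mem x hx.2 g⁻¹⟩
  simpa [mul_assoc] using (inferInstance : (center G).Normal).conj_mem _ h1 g

theorem HConfig.pairP_inf_le_center : pairP τ ⊓ conjBy g (pairP τ) ≤ center G := fun _ hx =>
  hc.pairZ_inf_le_center hg ⟨hx.1, hc.inf_le_pairZ hg hx⟩

theorem HConfig.commutator_mem_center {p x : G} (hp : p ∈ pairP τ)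
    (hx : x ∈ conjBy g (pairP τ)) : ⁅p, x⁆ ∈ center G :=
  hc.pairP_inf_le_center hg (hc.pairP_le_conj_normalizer hg hp hx)

/-- `[a, P ^ g]` covers `P` modulo the centre. -/
theorem HConfig.pairP_cover {a : G} (ha : a ∈ frameF τ) (haQ : a ∉ Cfsg.pCore 2 G) {p : G}
    (hp : p ∈ pairP τ) : ∃ x ∈ conjBy g (pairP τ), ⁅a, x⁆⁻¹ * p ∈ center G := by
  obtain ⟨x, hx, hxZ⟩ := (hc.pair_main hg).2.1 a ha haQ p hp
  have hxQ : x ∈ Cfsg.pCore 2 G := hc.pairD_le_core hg (mem_sup_right hx)
  have h1 : ⁅a, x⁆ ∈ pairP τ := (hc.commutator_mem_pairP hg hxQ ha).2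
  exact ⟨x, hx, hc.pairZ_inf_le_center hg ⟨(pairP τ).mul_mem ((pairP τ).inv_mem h1) hp, hxZ⟩⟩

end CfsgLib.FourFree.Stellmacher
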