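import Cfsg.Agent.Lib.FourFree.Final.Central
import Cfsg.Agent.Lib.FourFree.Config.Singular

/-!
# The rank bound for the forms of the pair

In an `HConfig` with pair `g`, let `K` be a subgroup not containing all commutators of `P` and `P ^ g` and
let `R` be the left radical `{p ∈ P : [p, P ^ g] ≤ K}`.  Then `2 |F : P| ^ 2 ≤ |P : R|`: the squares in `K`
of the elements of a coset of the half in `D` modulo the radical form a proper subgroup, and they bound
the points of `Halves.sq_card_le`.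
-/

set_option autoImplicit false
set_option linter.style.haveILetI false
set_option linter.unusedSectionVars false

open Subgroup
open scoped commutatorElement
open CfsgLib.Fusion (conjBy mem_conjBy conj_mem_conjBy conjBy_le_iff conjBy_eq_iff conjBy_mono
  conjBy_conjBy conjBy_inv_conjBy conjBy_conjBy_inv card_conjBy)
open CfsgLib.CFun (delt fixOf mem_fixOf)

namespace CfsgLib.FourFree.Stellmacher

universe u

section general

variable {G : Type u} [Group G]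

theorem comm_mul_left {a b e : G} (hb : ⁅b, e⁆ ∈ center G) : ⁅a * b, e⁆ = ⁅b, e⁆ * ⁅a, e⁆ := by
  have h := Subgroup.mem_center_iff.1 hb a
  calc ⁅a * b, e⁆ = a * ⁅b, e⁆ * a⁻¹ * ⁅a, e⁆ := by simp only [commutatorElement_def]; group
    _ = _ := by rw [h, mul_inv_cancel_right]

theorem comm_mul_right {a b e : G} (hb : ⁅e, b⁆ ∈ center G) : ⁅e, a * b⁆ = ⁅e, a⁆ * ⁅e, b⁆ := by
  have h := Subgroup.mem_center_iff.1 hb a
  calc ⁅e, a * b⁆ = ⁅e, a⁆ * (a * ⁅e, b⁆ * a⁻¹) := by simp only [commutatorElement_def]; group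
    _ = _ := by rw [h, mul_inv_cancel_right]

theorem comm_conj {c d e : G} (h : ⁅d, c⁻¹ * e * c⁆ ∈ center G) :
    ⁅c * d * c⁻¹, e⁆ = ⁅d, c⁻¹ * e * c⁆ := by
  calc ⁅c * d * c⁻¹, e⁆ = c * ⁅d, c⁻¹ * e * c⁆ * c⁻¹ := by
        simp only [commutatorElement_def]; group
    _ = _ := by rw [Subgroup.mem_center_iff.1 h c, mul_inv_cancel_right]

/-- The radical of the commutator form on `D` modulo `K`. -/
def radD (D K : Subgroup G) (hc : ∀ a ∈ D, ∀ b ∈ D, ⁅a, b⁆ ∈ center G) : Subgroup G where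
  carrier := {d | d ∈ D ∧ ∀ e ∈ D, ⁅d, e⁆ ∈ K}
  one_mem' := ⟨one_mem _, fun e _ => by rw [commutatorElement_one_left]; exact one_mem _⟩
  mul_mem' := fun {a b} ha hb => ⟨mul_mem ha.1 hb.1, fun e he => by
    rw [comm_mul_left (hc b hb.1 e he)]; exact mul_mem (hb.2 e he) (ha.2 e he)⟩
  inv_mem' := fun {a} ha => ⟨inv_mem ha.1, fun e he => by
    have h := comm_mul_left (a := a⁻¹) (hc a ha.1 e he)
    rw [inv_mul_cancel, commutatorElement_one_left] at h
    rw [eq_inv_of_mul_eq_one_right h.symm]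
    exact inv_mem (ha.2 e he)⟩

/-- The elements of `P` pairing into `K` with `x`. -/
def perpP (P K : Subgroup G) (x : G) (hc : ∀ p ∈ P, ⁅p, x⁆ ∈ center G) : Subgroup G where
  carrier := {p | p ∈ P ∧ ⁅p, x⁆ ∈ K}
  one_mem' := ⟨one_mem _, by rw [commutatorElement_one_left]; exact one_mem _⟩
  mul_mem' := fun {a b} ha hb => ⟨mul_mem ha.1 hb.1, by
    rw [comm_mul_left (hc b hb.1)]; exact mul_mem hb.2 ha.2⟩
  inv_mem' := fun {a} ha => ⟨inv_mem ha.1, by
    have h := comm_mul_left (a := a⁻¹) (hc a ha.1)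
    rw [inv_mul_cancel, commutatorElement_one_left] at h
    rw [eq_inv_of_mul_eq_one_right h.symm]
    exact inv_mem ha.2⟩

end general

variable {S T G G' : Type u} [Group S] [Group T] [Group G] [Group G'] [Finite T] [Finite G]
  {f : T →* S} {τ : T →* G} {τ' : S →* G'} {U : Subgroup S}

variable (hc : HConfig S T G G' f τ τ' U) {g : G} (hg : IsPair τ g)

include hc hg

theorem HConfig.conj_pairP_le_normalizer : conjBy g (pairP τ) ≤ normalizer (pairP τ : Set G) := by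
  intro x hx
  refine conjBy_eq_iff.1 (CfsgLib.Fusion.conjBy_eq_of_le (conjBy_le_iff.2 fun p hp => ?_))
  have hc' := (hc.pairP_le_conj_normalizer hg hp hx).1
  have h : ⁅p, x⁆⁻¹ * p ∈ pairP τ := mul_mem (inv_mem hc') hp
  convert h using 1
  rw [commutatorElement_def]; group

theorem HConfig.exists_mul_pairD {d : G} (hd : d ∈ pairD τ g) :
    ∃ p ∈ pairP τ, ∃ x ∈ conjBy g (pairP τ), p * x = d := by
  rw [← SetLike.mem_coe, pairD,
    Subgroup.coe_mul_of_right_le_normalizer_left _ _ (hc.conj_pairP_le_normalizer hg)] at hd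
  obtain ⟨p, hp, x, hx, h⟩ := hd
  exact ⟨p, hp, x, hx, h⟩

theorem HConfig.pairD_central : (∀ d ∈ pairD τ g, d * d ∈ center G) ∧
    ∀ a ∈ pairD τ g, ∀ b ∈ pairD τ g, ⁅a, b⁆ ∈ center G := by
  set π := QuotientGroup.mk' (center G)
  have hA : ∀ a ∈ (pairP τ).map π, a * a = 1 := by
    rintro _ ⟨a, ha, rfl⟩
    rw [← map_mul, hc.frameF_sq a ha.1, map_one]
  have hB : ∀ a ∈ (conjBy g (pairP τ)).map π, a * a = 1 := by
    rintro _ ⟨a, ha, rfl⟩
    rw [← map_mul, sq_conjBy hc.frameF_sq g a (conjBy_mono inf_le_left ha), map_one]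
  have hAB : ∀ a ∈ (pairP τ).map π, ∀ b ∈ (conjBy g (pairP τ)).map π, a * b = b * a := by
    rintro _ ⟨a, ha, rfl⟩ _ ⟨b, hb, rfl⟩
    refine commutatorElement_eq_one_iff_mul_comm.1 ?_
    rw [← map_commutatorElement, QuotientGroup.mk'_apply, QuotientGroup.eq_one_iff]
    exact hc.commutator_mem_center hg ha hb
  have h2 := sq_sup' hA hB hAB
  rw [← Subgroup.map_sup] at h2
  refine ⟨fun d hd => ?_, fun a ha b hb => ?_⟩
  · rw [← QuotientGroup.eq_one_iff, ← QuotientGroup.mk'_apply, map_mul]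
    exact h2 _ (mem_map_of_mem π hd)
  · rw [← QuotientGroup.eq_one_iff, ← QuotientGroup.mk'_apply, map_commutatorElement,
      commutatorElement_eq_one_iff_mul_comm]
    exact (commute_of_sq' h2 (mem_map_of_mem π ha) (mem_map_of_mem π hb)).eq

set_option maxHeartbeats 1600000 in
/-- The rank bound. -/
theorem HConfig.rank_bound (K : Subgroup G)
    (hex : ∃ p ∈ pairP τ, ∃ x ∈ conjBy g (pairP τ), ⁅p, x⁆ ∉ K)
    (R : Subgroup G)
    (hR : ∀ p, p ∈ R ↔ p ∈ pairP τ ∧ ∀ x ∈ conjBy g (pairP τ), ⁅p, x⁆ ∈ K) :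
    2 * ((Cfsg.pCore 2 G).relIndex (frameF τ) * (Cfsg.pCore 2 G).relIndex (frameF τ)) ≤
      R.relIndex (pairP τ) := by
  classical
  haveI : Fact (Nat.Prime 2) := ⟨Nat.prime_two⟩
  haveI hQn : (Cfsg.pCore 2 G).Normal := Subgroup.sSup_normal _ fun N hN => hN.1
  haveI hDn := hc.pairD_normal hg
  obtain ⟨hD2, hDc⟩ := hc.pairD_central hg
  have hPD : pairP τ ≤ pairD τ g := le_sup_left
  have hP'D : conjBy g (pairP τ) ≤ pairD τ g := le_sup_right
  have hP2 : ∀ p ∈ pairP τ, p * p = 1 := fun p hp => hc.frameF_sq p hp.1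
  have hP'2 : ∀ p ∈ conjBy g (pairP τ), p * p = 1 := fun p hp =>
    sq_conjBy hc.frameF_sq g p (conjBy_mono inf_le_left hp)
  have hPP : ∀ p ∈ pairP τ, ∀ q ∈ pairP τ, ⁅p, q⁆ = 1 := fun p hp q hq =>
    commutatorElement_eq_one_iff_mul_comm.2 (commute_of_sq' hP2 hp hq).eq
  have hP'P' : ∀ p ∈ conjBy g (pairP τ), ∀ q ∈ conjBy g (pairP τ), ⁅p, q⁆ = 1 := fun p hp q hq =>
    commutatorElement_eq_one_iff_mul_comm.2 (commute_of_sq' hP'2 hp hq).eq
  set Rh := radD (pairD τ g) K hDc with hRh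
  have hRhD : Rh ≤ pairD τ g := fun d hd => hd.1
  have hcen : ∀ z, z ∈ pairD τ g → z ∈ center G → z ∈ Rh := fun z hzD hz => ⟨hzD, fun e _ => by
    rw [commutatorElement_eq_one_iff_mul_comm.2 (Subgroup.mem_center_iff.1 hz e).symm]
    exact one_mem _⟩
  haveI hRn : Rh.Normal := ⟨fun d hd c => ⟨hDn.conj_mem d hd.1 c, fun e he => by
    have he' : c⁻¹ * e * c ∈ pairD τ g := by simpa using hDn.conj_mem e he c⁻¹
    rw [comm_conj (hDc _ hd.1 _ he')]
    exact hd.2 _ he'⟩⟩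
  have hPR : ∀ p, p ∈ R ↔ p ∈ pairP τ ∧ p ∈ Rh := by
    intro p
    rw [hR p]
    refine ⟨fun h => ⟨h.1, hPD h.1, fun e he => ?_⟩,
      fun h => ⟨h.1, fun x hx => h.2.2 x (hP'D hx)⟩⟩
    obtain ⟨p', hp', x, hx, rfl⟩ := hc.exists_mul_pairD hg he
    rw [comm_mul_right (hDc _ (hPD h.1) _ (hP'D hx)), hPP p h.1 p' hp', one_mul]
    exact h.2 x hx
  -- the quotient module
  set qR := QuotientGroup.mk' Rh with hqR
  have hqRs : Function.Surjective qR := QuotientGroup.mk'_surjective _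
  have hq1 : ∀ x, qR x = 1 ↔ x ∈ Rh := fun x => QuotientGroup.eq_one_iff x
  have hqc : ∀ x y, qR x * qR y = qR y * qR x ↔ ⁅x, y⁆ ∈ Rh := fun x y => by
    rw [← hq1, map_commutatorElement, commutatorElement_eq_one_iff_mul_comm]
  set E := (pairD τ g).map qR with hE
  haveI hEn : E.Normal := hDn.map _ hqRs
  have hE2 : ∀ e ∈ E, e * e = 1 := by
    rintro _ ⟨d, hd, rfl⟩
    rw [← map_mul]
    exact (hq1 _).2 (hcen _ (mul_mem hd hd) (hD2 d hd))
  letI : CommGroup E := { mul_comm := fun a b => Subtype.ext (commute_of_sq' hE2 a.2 b.2).eq }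
  have h2E : ∀ e : E, e * e = 1 := fun e => Subtype.ext (hE2 e e.2)
  let φ : G ⧸ Rh →* MulAut E := MulAut.conjNormal
  let σ := QuotientGroup.mk' φ.ker
  let ρ := QuotientGroup.kerLift φ
  have hρ : Function.Injective ρ := QuotientGroup.kerLift_injective _
  let π : G →* (G ⧸ Rh) ⧸ φ.ker := σ.comp qR
  have hπ : Function.Surjective π := (QuotientGroup.mk'_surjective _).comp hqRs
  have hact : ∀ (y : G ⧸ Rh) (e : E), ((ρ (σ y) e : E) : G ⧸ Rh) = y * e * y⁻¹ :=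
    fun y e => rfl
  have hHG : HG ((G ⧸ Rh) ⧸ φ.ker) := hg_of_not_involves
    (fun h => hc.member.free (CfsgLib.Fusion.involves_of_surjective qR hqRs h)) σ
    (QuotientGroup.mk'_surjective _) (MonoidHom.id E) Function.surjective_id hρ hEn
    (fun y e => Subtype.ext (hact y e)) (fun a ha b hb => commute_of_sq' hE2 ha hb) h2E
  let q : ↥(pairD τ g) →* E := (qR.comp (pairD τ g).subtype).codRestrict E
    fun x => mem_map_of_mem qR x.2
  have hqs : Function.Surjective q := by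
    rintro ⟨_, x, hx, rfl⟩
    exact ⟨⟨x, hx⟩, rfl⟩
  have hq : ∀ x, q x = 1 ↔ (x : G) ∈ Rh := fun x =>
    ⟨fun h => (hq1 _).1 (congrArg Subtype.val h), fun h => Subtype.ext ((hq1 _).2 h)⟩
  have hfix : ∀ (l : G) (x : ↥(pairD τ g)),
      ρ (π l) (q x) = q x ↔ ⁅l, (x : G)⁆ ∈ Rh := by
    intro l x
    rw [← hqc, Subtype.ext_iff]
    show qR l * qR (x : G) * (qR l)⁻¹ = qR (x : G) ↔ _
    exact mul_inv_eq_iff_eq_mul
  -- nothing is fixed
  have hdual : ∀ x ∈ pairD τ g, (∀ l : G, ⁅l, x⁆ ∈ Rh) → x ∈ Rh := by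
    intro x hx hl
    have hstep : ∀ c : G, ∀ y ∈ pairD τ g, ⁅x, c * y * c⁻¹⁆ * ⁅x, y⁆⁻¹ ∈ K := by
      intro c y hy
      have hy' : c * y * c⁻¹ ∈ pairD τ g := hDn.conj_mem y hy c
      set r := c⁻¹ * x * c * x⁻¹ with hr
      have hrR : r ∈ Rh := by
        have := hl c⁻¹
        rwa [commutatorElement_def, inv_inv] at this
      have e2 : c⁻¹ * x * c = r * x := by rw [hr]; group
      have e1 : ⁅x, c * y * c⁻¹⁆ = ⁅r * x, y⁆ := by
        rw [← e2]
        have h0 := comm_conj (c := c⁻¹) (d := x) (e := y)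
          (by rw [inv_inv]; exact hDc _ hx _ hy')
        rwa [inv_inv, eq_comm] at h0
      rw [e1, comm_mul_left (hDc _ hx _ hy), mul_assoc]
      have hz := Subgroup.mem_center_iff.1 (hDc _ hx _ hy) ⁅r, y⁆
      rw [← mul_assoc, ← hz, mul_assoc, mul_inv_cancel, mul_one]
      exact hrR.2 y hy
    obtain ⟨a, ha, haQ⟩ : ∃ a ∈ frameF τ, a ∉ Cfsg.pCore 2 G := by
      by_contra h
      push Not at h
      exact hc.frameF_not_le h
    have hPx : ∀ p ∈ pairP τ, ⁅x, p⁆ ∈ K := by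
      intro p hp
      obtain ⟨y, hy, hz⟩ := hc.pairP_cover hg ha haQ hp
      set z := ⁅a, y⁆⁻¹ * p with hz'
      have hyD := hP'D hy
      have haD : a * y * a⁻¹ ∈ pairD τ g := hDn.conj_mem y hyD a
      have hxz : ⁅x, z⁆ = 1 :=
        commutatorElement_eq_one_iff_mul_comm.2 (Subgroup.mem_center_iff.1 hz x)
      have e1 : p = a * y * a⁻¹ * y⁻¹ * z := by rw [hz', commutatorElement_def]; group
      have h1 : ⁅x, y⁻¹⁆ = ⁅x, y⁆⁻¹ := by
        have h := comm_mul_right (a := y) (hDc _ hx _ (inv_mem hyD))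
        rw [mul_inv_cancel, commutatorElement_one_right] at h
        exact eq_inv_of_mul_eq_one_right h.symm
      rw [e1, comm_mul_right (by rw [hxz]; exact one_mem _), hxz, mul_one,
        comm_mul_right (hDc _ hx _ (inv_mem hyD)), h1]
      exact hstep a y hyD
    refine ⟨hx, fun e he => ?_⟩
    obtain ⟨p, hp, y, hy, rfl⟩ := hc.exists_mul_pairD hg he
    rw [comm_mul_right (hDc _ hx _ (hP'D hy))]
    refine mul_mem (hPx p hp) ?_
    obtain ⟨p', hp', rfl⟩ := hy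
    have := mul_mem (hstep g p' (hPD hp')) (hPx p' hp')
    rwa [inv_mul_cancel_right] at this
  have htriv : ∀ e : E, (∀ y, ρ y e = e) → e = 1 := fun e he => by
    obtain ⟨x, rfl⟩ := hqs e
    exact (hq x).2 (hdual x x.2 fun l => (hfix l x).1 (he _))
  -- the top
  obtain ⟨p₁, hp₁, x₁, hx₁, hK₁⟩ := hex
  have hp₁R : p₁ ∉ Rh := fun h => hK₁ (h.2 x₁ (hP'D hx₁))
  have hnot : ∀ N : Subgroup G, N.Normal → IsPGroup 2 (N.map π) → N ≤ frameM τ := by
    intro N hN hp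
    haveI := hN
    refine le_sup_left.trans (hc.le_frameM (K := N ⊔ τ.range) (fun e => ?_)
      (hc.sup_le_range.trans le_sup_right))
    have h2 : IsPGroup 2 ((⊤ : Subgroup G).map π) := by
      rw [← e, Subgroup.map_sup]
      haveI : (N.map π).Normal := hN.map _ hπ
      exact hp.to_sup_of_normal_left (hc.range_isPGroup.map π)
    rw [map_top_of_surjective π hπ] at h2
    have hEne : (⊤ : Subgroup E) ≠ ⊥ := fun h => hp₁R ((hq ⟨p₁, hPD hp₁⟩).1
      (mem_bot.1 (h ▸ mem_top (q ⟨p₁, hPD hp₁⟩))))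
    obtain ⟨w, -, hw1, hw⟩ := exists_fixed (ρ := ρ) h2E h2 hEne
      (le_setFix fun _ _ _ _ => mem_top _)
    exact hw1 (htriv w fun y => mem_fixOf.1 hw y (mem_top y))
  have hkerM : π.ker ≤ frameM τ := hnot _ (MonoidHom.normal_ker π)
    (by rw [(Subgroup.map_eq_bot_iff _).2 le_rfl]; exact IsPGroup.of_bot)
  set B := (frameF τ).map π with hB
  set Mb := (frameM τ).map π with hMb
  have hM' : ∀ l : G, π l ∈ Mb → l ∈ frameM τ := by
    rintro l ⟨m, hm, hml⟩
    have hk : m⁻¹ * l ∈ π.ker := by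
      rw [MonoidHom.mem_ker, map_mul, map_inv, hml, inv_mul_cancel]
    simpa using mul_mem hm (hkerM hk)
  obtain ⟨P₀, hP₀⟩ := hc.member.sylow
  have hBsq : ∀ b ∈ B, b * b = 1 := sq_map hc.frameF_sq
  set PE := ((pairP τ).subgroupOf (pairD τ g)).map q with hPE
  set PE' := ((conjBy g (pairP τ)).subgroupOf (pairD τ g)).map q with hPE'
  have hPfix : ∀ (A A' : Subgroup G), (∀ a ∈ A', ∀ b ∈ A, a * b = b * a) →
      (A'.subgroupOf (pairD τ g)).map q ≤ fixOf ρ (A.map π) := by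
    rintro A A' hAA _ ⟨x, hx, rfl⟩
    refine mem_fixOf.2 ?_
    rintro _ ⟨a, ha, rfl⟩
    refine (hfix a x).2 ?_
    rw [commutatorElement_eq_one_iff_mul_comm.2
      (show (a : G) * (x : G) = x * a from (hAA _ hx _ ha).symm)]
    exact one_mem _
  have hPEB : PE ≤ fixOf ρ B := hPfix _ _ fun a ha b hb =>
    (commute_of_sq' hc.frameF_sq ha.1 hb).eq
  have hconjB : ∀ h : G, conjBy (π h) B = (conjBy h (frameF τ)).map π := fun h => by
    rw [hB, ← map_conjBy]
  have hPE'B : PE' ≤ fixOf ρ (conjBy (π g) B) := by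
    rw [hconjB]
    exact hPfix _ _ fun a ha b hb =>
      (commute_of_sq' (sq_conjBy hc.frameF_sq g) (conjBy_mono inf_le_left ha) hb).eq
  have hsup : PE ⊔ PE' = ⊤ := by
    rw [hPE, hPE', ← Subgroup.map_sup, ← subgroupOf_sup hPD hP'D,
      show pairP τ ⊔ conjBy g (pairP τ) = pairD τ g from rfl, subgroupOf_self,
      map_top_of_surjective q hqs]
  have hgen : ∀ h : G, h ∉ frameM τ → B ⊔ conjBy (π h) B = ⊤ := by
    intro h hh
    have e : pairL τ h = ⊤ := by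
      rw [hg.least h (by rw [hc.pairL_eq_top hg]; exact mem_top h) hh, hc.pairL_eq_top hg]
    rw [hconjB, hB, ← Subgroup.map_sup, show frameF τ ⊔ conjBy h (frameF τ) = ⊤ from e,
      map_top_of_surjective π hπ]
  have hboth : ∀ e : E, e ∈ fixOf ρ B → e ∈ fixOf ρ (conjBy (π g) B) → e = 1 := by
    intro e h1 h2
    refine htriv e fun y => ?_
    have : (⊤ : Subgroup _) ≤ ptFix ρ (zpowers e) := (hgen g hg.not_mem).ge.trans
      (sup_le (le_ptFix_iff.2 (zpowers_le.2 h1)) (le_ptFix_iff.2 (zpowers_le.2 h2)))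
    exact this (mem_top y) e (mem_zpowers e)
  have hfixB : fixOf ρ B = PE := by
    refine le_antisymm (fun e he => ?_) hPEB
    obtain ⟨u, hu, v, hv, rfl⟩ := Subgroup.mem_sup.1 (hsup.ge (mem_top e))
    have hv1 : v = 1 := hboth v ((mul_mem_cancel_left (hPEB hu)).1 he) (hPE'B hv)
    rw [hv1, mul_one]; exact hu
  have hfixB' : fixOf ρ (conjBy (π g) B) = PE' := by
    refine le_antisymm (fun e he => ?_) hPE'B
    obtain ⟨u, hu, v, hv, rfl⟩ := Subgroup.mem_sup.1 (hsup.ge (mem_top e))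
    have hu1 : u = 1 := hboth u (hPEB hu) ((mul_mem_cancel_right (hPE'B hv)).1 he)
    rw [hu1, one_mul]; exact hv
  have hcard : Nat.card E = Nat.card (fixOf ρ B) * Nat.card (fixOf ρ B) := by
    have h := card_sup_mul_inf PE PE'
    rw [hsup, show PE ⊓ PE' = ⊥ from (Subgroup.eq_bot_iff_forall _).2 fun e he =>
      hboth e (hPEB he.1) (hPE'B he.2), Subgroup.card_bot, mul_one, Subgroup.card_top,
      show Nat.card PE' = Nat.card PE by rw [← hfixB', ← hfixB, card_fixOf_conjBy]] at h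
    rw [hfixB]; exact h
  have hquad : ∀ a ∈ B, ∀ b ∈ B, ∀ e : E, delt ρ a (delt ρ b e) = 1 := by
    rintro a ha _ ⟨b, hb, rfl⟩ e
    obtain ⟨x, rfl⟩ := hqs e
    refine div_eq_one.2 (mem_fixOf.1 (hfixB.ge ?_) a ha)
    have hc1 := (hc.commutator_mem_pairP hg (hc.pairD_le_core hg x.2) hb).2
    refine ⟨⟨⁅(b : G), (x : G)⁆, hPD hc1⟩, hc1, ?_⟩
    refine Subtype.ext ?_
    show qR ⁅(b : G), (x : G)⁆ = ((ρ (π b) (q x) / q x : E) : G ⧸ Rh)
    rw [Subgroup.coe_div, map_commutatorElement, commutatorElement_def, div_eq_mul_inv]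
    rfl
  have hMbtop : Mb ≠ ⊤ := fun e => hg.not_mem (hM' g (e ▸ mem_top _))
  have hBQ : ∀ a ∈ frameF τ, π a ∈ Cfsg.pCore 2 ((G ⧸ Rh) ⧸ φ.ker) →
      a ∈ Cfsg.pCore 2 G := by
    intro a ha haO
    by_contra haQ
    set N := (Cfsg.pCore 2 ((G ⧸ Rh) ⧸ φ.ker)).comap π with hN
    have hNn : N.Normal := (Subgroup.sSup_normal _ fun N hN => hN.1).comap π
    have hsup' := hc.member.sup_range_eq_top hc.isMinimal hNn
      fun h => haQ (h ⟨hc.frameF_le ha, haO⟩)
    refine hc.frameM_ne_top (top_le_iff.1 (hsup'.ge.trans (sup_le (hnot N hNn ?_) hc.range_le_frameM)))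
    exact (CfsgLib.PGroup.isPGroup_pCore 2 _).to_le (map_comap_le _ _)
  have hQker : ∀ a ∈ frameF τ, a ∈ Cfsg.pCore 2 G → π a = 1 := by
    intro a ha haQ
    refine hρ (MulEquiv.ext fun e => ?_)
    obtain ⟨x, rfl⟩ := hqs e
    rw [map_one, MulAut.one_apply]
    refine (hfix a x).2 ?_
    have haP : a ∈ pairP τ := ⟨ha, haQ⟩
    have hD' := hDc a (hPD haP) x x.2
    refine hcen _ ?_ hD'
    rw [commutatorElement_def]
    exact mul_mem (mul_mem (mul_mem (hPD haP) x.2) (inv_mem (hPD haP))) (inv_mem x.2)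
  have hBcore : B ⊓ Cfsg.pCore 2 ((G ⧸ Rh) ⧸ φ.ker) = ⊥ := by
    refine (Subgroup.eq_bot_iff_forall _).2 ?_
    rintro _ ⟨⟨a, ha, rfl⟩, haO⟩
    exact hQker a ha (hBQ a ha haO)
  have hBne : B ≠ ⊥ := fun e => hc.frameF_not_le fun a ha => hBQ a ha (by
    rw [show π a = 1 from mem_bot.1 (e ▸ mem_map_of_mem π ha)]; exact one_mem _)
  have hs : Setup ρ ((P₀.mapSurjective hπ : Sylow 2 _) : Subgroup _) Mb B := by
    refine ⟨h2E, hHG, ⟨_, rfl⟩, ?_, hMbtop, ?_, hBne, hBsq, hquad, fun y hy => ?_⟩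
    · rw [Sylow.coe_mapSurjective, hP₀]; exact map_mono hc.range_le_frameM
    · rw [Sylow.coe_mapSurjective, hP₀]; exact map_mono hc.frameF_le
    · obtain ⟨h, rfl⟩ := hπ y
      exact hgen h fun hh => hy (mem_map_of_mem π hh)
  have hBM : B ≤ Mb := map_mono fun x hx => le_normalizer hx
  have hBMcore : B ≤ (Cfsg.pCore 2 Mb).map Mb.subtype := by
    have hn : Mb ≤ normalizer (B : Set ((G ⧸ Rh) ⧸ φ.ker)) := by
      rintro _ ⟨m, hm, rfl⟩
      rw [← conjBy_eq_iff, hconjB, conjBy_eq_iff.2 hm]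
    refine le_trans (le_of_eq (map_subgroupOf_eq_of_le hBM).symm) (map_mono ?_)
    refine CfsgLib.PGroup.le_pCore (normal_subgroupOf_of_le_normalizer hn) ?_
    exact IsPGroup.of_equiv (fun b => ⟨1, Subtype.ext (by simp [pow_two, hBsq b b.2])⟩)
      (subgroupOfEquivOfLe hBM).symm
  have hne : fixOf ρ B ≠ ⊥ := fun e => hp₁R ((hq ⟨p₁, hPD hp₁⟩).1
    (mem_bot.1 (e ▸ hfixB.ge ⟨⟨p₁, hPD hp₁⟩, hp₁, rfl⟩)))
  have hh := hs.halves htriv hcard hBcore hBMcore hne
  -- the coset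
  obtain ⟨p₂, hp₂, he₂⟩ := hx₁
  have he₂' : x₁ = g * p₂ * g⁻¹ := he₂.symm
  have hp₂R : p₂ ∉ Rh := fun h => hK₁ (by
    have h1 : x₁ ∈ Rh := he₂' ▸ hRn.conj_mem p₂ h g
    rw [← commutatorElement_inv]
    exact inv_mem (h1.2 p₁ (hPD hp₁)))
  have hv₀ : ρ (π g) (q ⟨p₂, hPD hp₂⟩) = q ⟨x₁, hP'D ⟨p₂, hp₂, he₂⟩⟩ := by
    refine Subtype.ext ?_
    show qR g * qR p₂ * (qR g)⁻¹ = qR x₁
    rw [he₂', map_mul, map_mul, map_inv]
  have hx₁' : x₁ ∈ conjBy g (pairP τ) := ⟨p₂, hp₂, he₂⟩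
  have hbound := hh.sq_card_le (g₀ := π g) (fun h => hg.not_mem (hM' g h))
    (x₀ := q ⟨p₂, hPD hp₂⟩) (hfixB.ge ⟨⟨p₂, hPD hp₂⟩, hp₂, rfl⟩)
    (fun h => hp₂R ((hq _).1 h))
    {v : E | ∃ d : ↥(pairD τ g), q d = v ∧ (d : G) * d ∈ K} (fun y e he => by
      obtain ⟨l, rfl⟩ := hπ y
      obtain ⟨p, hp, rfl⟩ := hfixB.le he
      refine ⟨⟨l * p * l⁻¹, hDn.conj_mem _ p.2 l⟩, Subtype.ext ?_, ?_⟩
      · show qR (l * p * l⁻¹) = qR l * qR p * (qR l)⁻¹
        rw [map_mul, map_mul, map_inv]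
      · show l * p * l⁻¹ * (l * p * l⁻¹) ∈ K
        rw [show l * (p : G) * l⁻¹ * (l * p * l⁻¹) = l * ((p : G) * p) * l⁻¹ by group, hP2 (p : G) hp,
          mul_one, mul_inv_cancel]
        exact one_mem _)
  set R1 := perpP (pairP τ) K x₁ (fun p hp => hc.commutator_mem_center hg hp hx₁') with hR1
  have hle : Nat.card {c // c ∈ fixOf ρ B ∧ c * ρ (π g) (q ⟨p₂, hPD hp₂⟩) ∈
      {v : E | ∃ d : ↥(pairD τ g), q d = v ∧ (d : G) * d ∈ K}} ≤
      Nat.card ((R1.subgroupOf (pairD τ g)).map q) := by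
    refine Nat.card_le_card_of_injective (fun c => ⟨c.1, ?_⟩)
      fun a b e => Subtype.ext (congrArg Subtype.val e :)
    obtain ⟨hcB, d, hd, hdd⟩ := c.2
    obtain ⟨p, hp, hpc⟩ := hfixB.le hcB
    refine ⟨p, ⟨hp, ?_⟩, hpc⟩
    set w : ↥(pairD τ g) := p * ⟨x₁, hP'D hx₁'⟩ with hw
    set r := w⁻¹ * d with hr
    have hrR : (r : G) ∈ Rh := (hq r).1 (by
      rw [hr, map_mul, map_inv, hw, map_mul, hd, hpc, ← hv₀, inv_mul_cancel])
    have hr2 : (r : G) * r ∈ K := by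
      obtain ⟨s, hs', y, hy, hsy⟩ := hc.exists_mul_pairD hg hrR.1
      have h1 : ⁅(r : G), y⁆ = ⁅s, y⁆ := by
        rw [← hsy, comm_mul_left (by rw [hP'P' y hy y hy]; exact one_mem _), hP'P' y hy y hy,
          one_mul]
      rw [← hsy, show s * y * (s * y) = s * y * s⁻¹ * y⁻¹ by
        rw [inv_eq_of_mul_eq_one_right (hP2 s hs'), inv_eq_of_mul_eq_one_right (hP'2 y hy)]
        group, ← commutatorElement_def, ← h1]
      exact hrR.2 y (hP'D hy)
    have hru : ⁅(r : G), (w : G)⁆ ∈ K := hrR.2 _ w.2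
    have hdw : (d : G) = w * r := by rw [hr]; simp
    have hww : (w : G) * w = ⁅(p : G), x₁⁆ := by
      rw [commutatorElement_def, inv_eq_of_mul_eq_one_right (hP2 (p : G) hp),
        inv_eq_of_mul_eq_one_right (hP'2 _ hx₁'), hw, Subgroup.coe_mul]
      group
    have hz := Subgroup.mem_center_iff.1 (hDc _ r.2 _ w.2) (w : G)
    have e3 : (d : G) * d = ⁅(r : G), (w : G)⁆ * ((w : G) * w) * ((r : G) * r) := by
      rw [hdw, show (w : G) * r * (w * r) = w * (⁅(r : G), (w : G)⁆ * (w * r)) * r by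
        rw [commutatorElement_def]; group, ← mul_assoc (w : G), hz]
      simp only [mul_assoc]
    rw [e3, hww] at hdd
    show ⁅(p : G), x₁⁆ ∈ K
    exact (mul_mem_cancel_left hru).1 ((mul_mem_cancel_right hr2).1 hdd)
  have hqker : ∀ A : Subgroup G, A ≤ pairP τ →
      Nat.card ((A.subgroupOf (pairD τ g)).map q) = R.relIndex A := by
    intro A hA
    rw [← relIndex_ker, show q.ker = Rh.subgroupOf (pairD τ g) from Subgroup.ext fun x => hq x,
      subgroupOf, relIndex_comap, subgroupOf_map_subtype, inf_eq_left.2 (hA.trans hPD),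
      ← inf_relIndex_right, ← inf_relIndex_right R]
    congr 1
    ext p
    exact ⟨fun h => ⟨(hPR p).2 ⟨hA h.2, h.1⟩, h.2⟩, fun h => ⟨((hPR p).1 h.1).2, h.2⟩⟩
  have hBcard : (Cfsg.pCore 2 G).relIndex (frameF τ) ≤ Nat.card B := by
    rw [hB, ← relIndex_ker, ← inf_relIndex_right π.ker]
    exact Nat.le_of_dvd (Nat.pos_of_ne_zero index_ne_zero_of_finite)
      (relIndex_dvd_of_le_left _ fun a ha => hBQ a ha.2 (by
        rw [MonoidHom.mem_ker.1 ha.1]; exact one_mem _))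
  have hR1P : R1 ≤ pairP τ := fun p hp => hp.1
  have hRR1 : R ≤ R1 := fun p hp => ⟨((hR p).1 hp).1, ((hR p).1 hp).2 x₁ hx₁'⟩
  have h2le : 2 ≤ R1.relIndex (pairP τ) := by
    have h0 : R1.relIndex (pairP τ) ≠ 0 := index_ne_zero_of_finite
    have h1 : R1.relIndex (pairP τ) ≠ 1 := fun e => hK₁ ((relIndex_eq_one.1 e) hp₁).2
    omega
  calc 2 * ((Cfsg.pCore 2 G).relIndex (frameF τ) * (Cfsg.pCore 2 G).relIndex (frameF τ))
      ≤ R1.relIndex (pairP τ) * R.relIndex R1 := by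
        refine Nat.mul_le_mul h2le ?_
        rw [← hqker R1 hR1P]
        exact ((Nat.mul_le_mul hBcard hBcard).trans hbound).trans hle
    _ = R.relIndex (pairP τ) := by rw [mul_comm, relIndex_mul_relIndex _ _ _ hRR1 hR1P]

end CfsgLib.FourFree.Stellmacher
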